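import Cfsg.Agent.H771.KTools_m3
import Cfsg.Agent.ClassicalGeometry.PSUAutMain
import Mathlib
import Cfsg.Agent.H183.SUCount
import Cfsg.Agent.H321.SpecEven.Defs_m3
import Cfsg.Agent.Prune
set_option linter.all false
prune_inst 0x7f00000000000000000000000000000000000000000000000000000000000000000000000000000000000000000000000000000000000000000000000000000000000000000000000000000000000000003fffffffffffffffffffffffffffbeffbdffffffff
open scoped Cfsg.Agent.FastGrp

-- part: H700/PsuRow/Ctl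
section
/-!
# `PSU_n(q)`: automorphisms and characteristic polynomials (for S4883)
-/

set_option autoImplicit false
set_option linter.unusedSectionVars false

namespace Cfsg.Agent.H700.PsuRow

open Polynomial Matrix Cfsg Cfsg.Agent.H93.PReg Cfsg.Agent.LieClassical.HermSiegel
open Cfsg.Agent.ClassicalGeometry.PSUAutCount Cfsg.Agent.ClassicalGeometry.UnitAutBasic
open Cfsg.Agent.LieClassical.SUBasic

variable {F : Type*} [Field F] [Fintype F] {n q : ℕ}

/-- the inclusion of `SU` in the matrices -/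
def ρ (n : ℕ) (F : Type*) [Field F] (q : ℕ) : SU n F q →* Matrix (Fin n) (Fin n) F where
  toFun g := mat g
  map_one' := mat_one
  map_mul' := mat_mul

omit [Fintype F] in
theorem ρ_apply (g : SU n F q) : ρ n F q g = mat g := rfl

omit [Fintype F] in
theorem charpoly_ok (g : SU n F q) :
    (mat g).charpoly ≠ 0 ∧ (mat g).charpoly.natDegree ≤ Fintype.card (Fin n) :=
  ⟨(charpoly_monic _).ne_zero, (charpoly_natDegree_eq_dim _).le⟩

omit [Fintype F] in
theorem charpoly_guConj (A : GU n F q) (g : SU n F q) : (mat (guConj A g)).charpoly = (mat g).charpoly := by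
  have h : mat (guConj A g) = gm A * mat g * gm A⁻¹ := rfl
  rw [h, Matrix.charpoly_mul_comm, ← mul_assoc, gm_inv_mul, one_mul]

omit [Fintype F] in
theorem charpoly_of_pr {A : GU n F q} {g g' : SU n F q} (h : pr n F q (guConj A g) = pr n F q g') :
    ∃ z : Subgroup.center (SU n F q), (ρ n F q g').charpoly = (mat (z.1 * g)).charpoly := by
  have h1 : (guConj A g)⁻¹ * g' ∈ Subgroup.center (SU n F q) := QuotientGroup.eq.1 h
  have h2 : (guConj A)⁻¹ ((guConj A g)⁻¹ * g') ∈ Subgroup.center (SU n F q) :=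
    (MulEquivClass.apply_mem_center_iff _).2 h1
  refine ⟨⟨_, h2⟩, ?_⟩
  rw [← charpoly_guConj A, map_mul (guConj A)]
  simp only [MulAut.apply_inv_self]
  rw [ρ_apply, ← Subgroup.mem_center_iff.1 h1, mul_inv_cancel_left]

/-- **control** -/
theorem ctl (hF : Fintype.card F = q ^ 2) (hn : 3 ≤ n) (h32 : ¬ (n = 3 ∧ q = 2)) :
    Ctl (ρ n F q) (pr n F q) (Subgroup.center (SU n F q) × (F ≃+* F)) := by
  refine ⟨fun w g => (mat (w.1.1 * Cfsg.Agent.LieClassical.FieldTransfer.suCongr n q w.2 g)).charpoly,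
    fun w g => charpoly_ok _, ?_⟩
  intro a g g' hag
  obtain ⟨A, σ, rfl⟩ := Cfsg.Agent.ClassicalGeometry.PSUAutMain.exists_toAut hF hn h32 a
  have h1 : pr n F q (guConj A (Cfsg.Agent.LieClassical.FieldTransfer.suCongr n q σ g)) = pr n F q g' := hag
  obtain ⟨z, hz⟩ := charpoly_of_pr h1
  exact ⟨(z, σ), hz⟩

end Cfsg.Agent.H700.PsuRow
end

-- part: H700/PsuRow/Wn
section
/-!
# The numbers `|(-q)^m - 1|` (for the unitary row of S4883)
-/

set_option autoImplicit false

namespace Cfsg.Agent.H700.PsuRow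

/-- `|(-q)^m - 1|` -/
def wn (q m : ℕ) : ℕ := ((-(q : ℤ)) ^ m - 1).natAbs

theorem wn_even {q m : ℕ} (hq : 1 ≤ q) (hm : Even m) : wn q m = q ^ m - 1 := by
  unfold wn
  rw [hm.neg_pow]
  have h : 1 ≤ q ^ m := Nat.one_le_pow _ _ hq
  have : ((q : ℤ) ^ m - 1) = ((q ^ m - 1 : ℕ) : ℤ) := by
    rw [Nat.cast_sub h]; push_cast; ring
  rw [this, Int.natAbs_natCast]

theorem wn_odd {q m : ℕ} (hm : Odd m) : wn q m = q ^ m + 1 := by
  unfold wn
  rw [hm.neg_pow]
  have : (-(q : ℤ) ^ m - 1) = -((q ^ m + 1 : ℕ) : ℤ) := by push_cast; ring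
  rw [this, Int.natAbs_neg, Int.natAbs_natCast]

theorem wn_one {q : ℕ} : wn q 1 = q + 1 := by
  rw [wn_odd odd_one, pow_one]

theorem natCast_dvd_iff {N q m : ℕ} : N ∣ wn q m ↔ (N : ℤ) ∣ (-(q : ℤ)) ^ m - 1 := by
  unfold wn
  rw [Int.natCast_dvd]

/-- `(q + 1) * |Σ (-q)^i| = |(-q)^n - 1|` -/
theorem wn_eq_sum (q n : ℕ) : (∑ i ∈ Finset.range n, (-(q : ℤ)) ^ i).natAbs * (q + 1) = wn q n := by
  have h := geom_sum_mul (-(q : ℤ)) n
  unfold wn
  rw [← h, Int.natAbs_mul]
  congr 1
  have : (-(q : ℤ) - 1) = -((q + 1 : ℕ) : ℤ) := by push_cast; ring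
  rw [this, Int.natAbs_neg, Int.natAbs_natCast]

theorem wn_dvd {q m : ℕ} (hq : 1 ≤ q) : wn q m ∣ q ^ (2 * m) - 1 := by
  have h : 1 ≤ q ^ (2 * m) := Nat.one_le_pow _ _ hq
  have h1 : ((q ^ (2 * m) - 1 : ℕ) : ℤ) = ((-(q : ℤ)) ^ m - 1) * ((-(q : ℤ)) ^ m + 1) := by
    rw [Nat.cast_sub h]
    push_cast
    rw [pow_mul, ← neg_sq (q : ℤ), ← pow_mul]
    ring
  have h2 : ((wn q m : ℕ) : ℤ) ∣ ((q ^ (2 * m) - 1 : ℕ) : ℤ) := by
    rw [h1]
    unfold wn
    rw [Int.natCast_natAbs, abs_dvd]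
    exact Dvd.intro _ rfl
  exact Int.natCast_dvd_natCast.1 h2

end Cfsg.Agent.H700.PsuRow
end

-- part: H700/PsuRow/Tor
section
/-!
# `SU_n(q)`: elements with a prescribed characteristic polynomial, elements of the cyclic tori (for S4883)
-/

set_option autoImplicit false
set_option linter.unusedSectionVars false

namespace Cfsg.Agent.H700.PsuRow

open Polynomial Matrix Cfsg Cfsg.Agent.H93.PReg Cfsg.Agent.LieClassical.HermSiegel
open Cfsg.Agent.H183.SemisCount Cfsg.Agent.H183.PolyCount Cfsg.Agent.H183.Semis Cfsg.Agent.H186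
open Cfsg.Agent.ClassicalGeometry.GUBasic

/-- **elements with a given characteristic polynomial** (the surjectivity in S2386) -/
theorem exists_su_of_pol {K : Type*} [Field K] [Fintype K] {q : ℕ} (hK : Fintype.card K = q ^ 2) {m : ℕ} {f : K[X]}
    (hf : f ∈ Pol K q m) : ∃ s : SU (m + 1) K q, (mat s).charpoly = f := by
  classical
  obtain ⟨p, hpc⟩ := CharP.exists K
  have : Fact p.Prime := ⟨CharP.char_is_prime K p⟩
  obtain ⟨σ, hσ⟩ := exists_powHom hK
  obtain ⟨hf1, hf2, hf3, -⟩ := id hf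
  rw [mem_pol_iff hK σ hσ hf1 hf2 hf3] at hf
  obtain ⟨M, hM⟩ := exists_charpoly (m + 1) hf1 hf2
  have hdet : M.det = 1 := by
    rw [Matrix.det_eq_sign_charpoly_coeff, Fintype.card_fin, hM, hf3, neg_one_pow_sq]
  -- the `p'`-part
  let g : Matrix.SpecialLinearGroup (Fin (m + 1)) K := ⟨M, hdet⟩
  obtain ⟨k, hk⟩ := exists_pow_coprime (F := K) p g
  set a := g ^ (Fintype.card K ^ k) with ha
  have hac : (a : Matrix (Fin (m + 1)) (Fin (m + 1)) K).charpoly = f := by
    rw [ha, Matrix.SpecialLinearGroup.coe_pow, charpoly_pow]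
    exact hM
  have hadet : (a : Matrix (Fin (m + 1)) (Fin (m + 1)) K).det = 1 := a.2
  have hapow : (a : Matrix (Fin (m + 1)) (Fin (m + 1)) K) ^ orderOf a = 1 := by
    rw [← Matrix.SpecialLinearGroup.coe_pow, pow_orderOf_eq_one]; rfl
  set A : GL (Fin (m + 1)) K := (a : GL (Fin (m + 1)) K) with hA
  have hu : IsUnit (st q (a : Matrix (Fin (m + 1)) (Fin (m + 1)) K)).det := by
    rw [det_st hK, hadet, one_pow]; exact isUnit_one
  have hst1 : (st q (a : Matrix (Fin (m + 1)) (Fin (m + 1)) K))⁻¹ = st q ((a : Matrix (Fin (m + 1)) (Fin (m + 1)) K)⁻¹) := by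
    apply Matrix.inv_eq_left_inv
    rw [← st_mul hK, Matrix.mul_nonsing_inv _ (by rw [hadet]; exact isUnit_one), st_one hK]
  -- `(st A)⁻¹` has the same characteristic polynomial
  have hch : ((st q (a : Matrix (Fin (m + 1)) (Fin (m + 1)) K))⁻¹).charpoly = f := by
    rw [hst1, charpoly_st σ hσ, charpoly_inv_of_det _ hadet, hac, Fintype.card_fin, ← hf, Polynomial.map_map]
    have : σ.comp σ = RingHom.id K := by
      ext x
      rw [RingHom.comp_apply, hσ, hσ, pow_pow_q hK]; rfl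
    rw [this, Polynomial.map_id]
  have hpw2 : ((st q (a : Matrix (Fin (m + 1)) (Fin (m + 1)) K))⁻¹) ^ orderOf a = 1 := by
    rw [Matrix.inv_pow', ← st_pow hK]
    erw [hapow]
    rw [st_one hK, inv_one]
  obtain ⟨x, hx⟩ := similar_of_charpoly _ _ hapow (natCast_ne_zero p hk) hpw2 (natCast_ne_zero p hk) (hac.trans hch.symm)
  obtain ⟨B, hB⟩ := (exists_isConj_iff hK A).2 (by
    show IsConj (a : Matrix (Fin (m + 1)) (Fin (m + 1)) K) (st q (a : Matrix (Fin (m + 1)) (Fin (m + 1)) K))⁻¹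
    exact ⟨x, hx⟩)
  obtain ⟨c, hc⟩ := isConj_iff.1 hB
  have hBc : ((B : GL (Fin (m + 1)) K) : Matrix (Fin (m + 1)) (Fin (m + 1)) K).charpoly = f := by
    rw [← hc, Units.val_mul, Matrix.charpoly_mul_comm, ← Units.val_mul, ← mul_assoc, inv_mul_cancel, one_mul]
    exact hac
  have hBdet : ((B : GL (Fin (m + 1)) K) : Matrix (Fin (m + 1)) (Fin (m + 1)) K).det = 1 := by
    rw [Matrix.det_eq_sign_charpoly_coeff, Fintype.card_fin, hBc, hf3, neg_one_pow_sq]
  let s : Matrix.SpecialLinearGroup (Fin (m + 1)) K := ⟨((B : GL (Fin (m + 1)) K) : Matrix (Fin (m + 1)) (Fin (m + 1)) K), hBdet⟩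
  have hs : s ∈ Cfsg.SU (m + 1) K q := by
    intro u' v'
    exact B.2 u' v'
  exact ⟨⟨s, hs⟩, hBc⟩

section fam

variable {K L : Type*} [Field K] [Fintype K] [Field L] [Algebra K L] {q : ℕ} {ι : Type*} [Fintype ι]

theorem mem_range_of_pow {c : L} (hc : c ^ Fintype.card K = c) : ∃ a : K, algebraMap K L a = c := by
  classical
  by_contra hcon
  push Not at hcon
  have h1 : (X ^ Fintype.card K - X : L[X]) ≠ 0 := FiniteField.X_pow_card_sub_X_ne_zero L Fintype.one_lt_card
  have h2 : (insert c (Finset.univ.image (algebraMap K L))).card ≤ (X ^ Fintype.card K - X : L[X]).natDegree := by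
    refine Polynomial.card_le_degree_of_subset_roots (Z := insert c (Finset.univ.image (algebraMap K L))) ?_
    intro y hy
    rw [Finset.mem_val, Finset.mem_insert, Finset.mem_image] at hy
    rw [mem_roots h1, IsRoot.def, eval_sub, eval_pow, eval_X, sub_eq_zero]
    rcases hy with rfl | ⟨a, -, rfl⟩
    · exact hc
    · rw [← map_pow, FiniteField.pow_card]
  rw [FiniteField.X_pow_card_sub_X_natDegree_eq L Fintype.one_lt_card, Finset.card_insert_of_notMem, Finset.card_image_of_injective _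
    (algebraMap K L).injective, Finset.card_univ] at h2
  · omega
  · rw [Finset.mem_image]
    rintro ⟨a, -, ha⟩
    exact hcon a ha

theorem reverse_X_sub_C (a : L) : (X - C a).reverse = 1 - C a * X := by
  have h : (X - C a : L[X]) = X + C (-a) := by rw [C_neg, sub_eq_add_neg]
  rw [h, reverse_add_C, natDegree_X, pow_one, C_neg]
  have : (X : L[X]).reverse = 1 := by
    have := reverse_mul_X (1 : L[X])
    rw [one_mul] at this
    rw [this, ← C_1, reverse_C]
  rw [this]
  ring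

theorem reverse_prod (s : Finset ι) (y : ι → L) :
    (∏ i ∈ s, (X - C (y i))).reverse = ∏ i ∈ s, (1 - C (y i) * X) := by
  classical
  induction s using Finset.induction_on with
  | empty => rw [Finset.prod_empty, Finset.prod_empty, ← C_1, reverse_C]
  | insert a s ha ih => rw [Finset.prod_insert ha, Finset.prod_insert ha, reverse_mul_of_domain, ih, reverse_X_sub_C]

theorem exists_pol (hK : Fintype.card K = q ^ 2) {m : ℕ} (hι : Fintype.card ι = m + 1) (y : ι → Lˣ)
    (π : Equiv.Perm ι) (hπ : ∀ i, y (π i) = y i ^ (-(q : ℤ))) (h1 : ∏ i, y i = 1) :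
    ∃ f ∈ Pol K q m, f.map (algebraMap K L) = ∏ i, (X - C (y i : L)) := by
  classical
  obtain ⟨σ, hσ⟩ := exists_powHom hK
  obtain ⟨Φ, hΦ⟩ := Cfsg.Agent.H403.exists_powHomE (t := 1) hK L
  have hcomm : Φ.comp (algebraMap K L) = (algebraMap K L).comp σ := by
    ext x
    rw [RingHom.comp_apply, RingHom.comp_apply, hΦ, hσ, map_pow]
  have hΦy : ∀ i, Φ (y i : L) = ((y (π i))⁻¹ : Lˣ) := by
    intro i
    rw [hΦ, hπ, _root_.zpow_neg, inv_inv, zpow_natCast, Units.val_pow_eq_pow_val]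
  set g : L[X] := ∏ i, (X - C (y i : L)) with hg
  have hgm : g.Monic := monic_prod_of_monic _ _ fun i _ => monic_X_sub_C _
  have hgd : g.natDegree = m + 1 := by
    rw [hg, natDegree_prod_of_monic _ _ fun i _ => monic_X_sub_C _]
    simp [hι]
  -- the first Frobenius
  have hg1 : g.map Φ = ∏ i, (X - C (((y i)⁻¹ : Lˣ) : L)) := by
    rw [hg, Polynomial.map_prod, ← Equiv.prod_comp π fun i => (X - C (((y i)⁻¹ : Lˣ) : L))]
    refine Finset.prod_congr rfl fun i _ => ?_
    rw [Polynomial.map_sub, map_X, map_C, hΦy]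
  have hg2 : (g.map Φ).map Φ = g := by
    rw [hg1, Polynomial.map_prod, hg, ← Equiv.prod_comp π fun i => (X - C (y i : L))]
    refine Finset.prod_congr rfl fun i _ => ?_
    rw [Polynomial.map_sub, map_X, map_C]
    congr 2
    have h3 := hΦy i
    have h4 : Φ (((y i)⁻¹ : Lˣ) : L) = (Φ (y i : L))⁻¹ := by
      rw [Units.val_inv_eq_inv_val, map_inv₀]
    rw [h4, h3, Units.val_inv_eq_inv_val, inv_inv]
  have hlift : g ∈ lifts (algebraMap K L) := by
    rw [lifts_iff_coeff_lifts]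
    intro i
    have h3 := congrArg (fun f => f.coeff i) hg2
    simp only [coeff_map, hΦ] at h3
    rw [← pow_mul, ← sq, ← hK] at h3
    exact mem_range_of_pow h3
  obtain ⟨f, hfg⟩ := (mem_lifts _).1 hlift
  have hinj := (algebraMap K L).injective
  have hfm : f.Monic := by
    rw [← hfg] at hgm
    exact monic_of_injective hinj hgm
  have hfd : f.natDegree = m + 1 := by
    rw [← hgd, ← hfg, natDegree_map]
  have hf0 : f.coeff 0 = (-1) ^ (m + 1) := by
    apply hinj
    rw [← coeff_map, hfg, hg, coeff_zero_eq_eval_zero, eval_prod, map_pow, map_neg, map_one, ← hι]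
    simp only [eval_sub, eval_X, eval_C, zero_sub]
    rw [Finset.prod_neg, Finset.card_univ, ← Units.coe_prod, h1, Units.val_one, mul_one]
  refine ⟨f, (mem_pol_iff hK σ hσ hfm hfd hf0).2 ?_, hfg⟩
  apply Polynomial.map_injective _ hinj
  rw [Polynomial.map_map, ← hcomm, ← Polynomial.map_map, hfg, hg1, Polynomial.map_mul, map_C]
  have hrev : f.reverse.map (algebraMap K L) = (f.map (algebraMap K L)).reverse := by
    rw [reverse, reverse, reflect_map, natDegree_map]
  rw [hrev, hfg, hg, reverse_prod, map_pow, map_neg, map_one, ← hι]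
  have h5 : ∀ i, (X - C (((y i)⁻¹ : Lˣ) : L)) = C (((y i)⁻¹ : Lˣ) : L) * (-1) * (1 - C (y i : L) * X) := by
    intro i
    have : C (((y i)⁻¹ : Lˣ) : L) * C (y i : L) = 1 := by
      rw [← C_mul, ← Units.val_mul, inv_mul_cancel, Units.val_one, C_1]
    linear_combination (-X : L[X]) * this
  rw [Finset.prod_congr rfl fun i _ => h5 i, Finset.prod_mul_distrib, Finset.prod_mul_distrib, Finset.prod_const, Finset.card_univ,
    ← map_prod C, ← Units.coe_prod, Finset.prod_inv_distrib, h1, inv_one, Units.val_one, C_1, one_mul, C_pow, C_neg, C_1]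

/-- **elements of `SU` with given eigenvalues** -/
theorem exists_su (hK : Fintype.card K = q ^ 2) {m : ℕ} (hι : Fintype.card ι = m + 1) (y : ι → Lˣ)
    (π : Equiv.Perm ι) (hπ : ∀ i, y (π i) = y i ^ (-(q : ℤ))) (h1 : ∏ i, y i = 1) :
    ∃ t : SU (m + 1) K q, ∀ i, aeval (y i : L) (ρ (m + 1) K q t).charpoly = 0 := by
  obtain ⟨f, hf, hfg⟩ := exists_pol hK hι y π hπ h1
  obtain ⟨t, ht⟩ := exists_su_of_pol hK hf
  refine ⟨t, fun i => ?_⟩
  rw [ρ_apply, ht, ← eval_map_algebraMap, hfg, eval_prod]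
  exact Finset.prod_eq_zero (Finset.mem_univ i) (by simp)

end fam

section tori

variable {K : Type} [Field K] [Fintype K] {q : ℕ}

/-- elements of a given order in an extension -/
theorem exists_elem (hK : Fintype.card K = q ^ 2) {n : ℕ} (hn : n ≠ 0) {N : ℕ} (hN : N ∣ wn q n) (hN0 : N ≠ 0) :
    ∃ (L : Type) (_ : Field L) (_ : Algebra K L) (x : Lˣ), orderOf x = N := by
  obtain ⟨L, _, _, _, _, g, -, hg⟩ := Singer.exists_ext K n hn
  have hq := two_le hK
  rw [hK, ← pow_mul] at hg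
  have h1 : N ∣ orderOf g := by
    rw [hg]
    exact hN.trans (wn_dvd (by omega))
  have h2 : q ^ (2 * n) - 1 ≠ 0 := by
    have : q ^ 1 ≤ q ^ (2 * n) := Nat.pow_le_pow_right (by omega) (by omega)
    rw [pow_one] at this
    omega
  obtain ⟨c, hc⟩ := h1
  refine ⟨L, inferInstance, inferInstance, g ^ c, ?_⟩
  rw [orderOf_pow_of_dvd (by rintro rfl; rw [mul_zero] at hc; omega) (by rw [hc]; exact Dvd.intro_left _ rfl), hc]
  refine Nat.mul_div_cancel _ (Nat.pos_of_ne_zero ?_)
  rintro rfl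
  rw [mul_zero] at hc
  omega

/-- the orbit of `x` under `y ↦ y ^ (-q)` -/
def orb {L : Type*} [Field L] (q : ℕ) (x : Lˣ) (m : ℕ) (i : Fin m) : Lˣ := x ^ ((-(q : ℤ)) ^ (i : ℕ))

theorem orb_rotate {L : Type*} [Field L] {q m : ℕ} {x : Lˣ} (hx : x ^ ((-(q : ℤ)) ^ (m + 1)) = x) (i : Fin (m + 1)) :
    orb q x (m + 1) (finRotate (m + 1) i) = orb q x (m + 1) i ^ (-(q : ℤ)) := by
  unfold orb
  rw [← _root_.zpow_mul, ← pow_succ]
  rcases eq_or_ne i (Fin.last m) with rfl | hi
  · rw [finRotate_last, Fin.val_last, hx]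
    simp
  · rw [coe_finRotate_of_ne_last hi]

theorem prod_orb {L : Type*} [Field L] {q m : ℕ} {x : Lˣ} :
    ∏ i, orb q x m i = x ^ (∑ i ∈ Finset.range m, (-(q : ℤ)) ^ i) := by
  unfold orb
  rw [Fin.prod_univ_eq_prod_range (fun i => x ^ ((-(q : ℤ)) ^ i)) m]
  induction m with
  | zero => simp
  | succ m ih => rw [Finset.prod_range_succ, ih, Finset.sum_range_succ, _root_.zpow_add]

theorem zpow_eq_self {L : Type*} [Field L] {q m : ℕ} {x : Lˣ} (hx : orderOf x ∣ wn q m) :
    x ^ ((-(q : ℤ)) ^ m) = x := by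
  rw [natCast_dvd_iff, orderOf_dvd_iff_zpow_eq_one, _root_.zpow_sub, zpow_one, mul_inv_eq_one] at hx
  exact hx

/-- **the torus of order `((-q)^n - 1)/(-q-1)`** -/
theorem exists_one (hK : Fintype.card K = q ^ 2) {m : ℕ} : ∃ (L : Type) (_ : Field L) (_ : Algebra K L)
    (t : SU (m + 1) K q) (x : L), aeval x (ρ (m + 1) K q t).charpoly = 0 ∧ orderOf x * (q + 1) = wn q (m + 1) := by
  have hq := two_le hK
  have h1 := wn_eq_sum q (m + 1)
  set N := (∑ i ∈ Finset.range (m + 1), (-(q : ℤ)) ^ i).natAbs with hN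
  have hw0 : wn q (m + 1) ≠ 0 := by
    rcases Nat.even_or_odd (m + 1) with h | h
    · rw [wn_even (by omega) h]
      have : q ^ 1 ≤ q ^ (m + 1) := Nat.pow_le_pow_right (by omega) (by omega)
      rw [pow_one] at this
      omega
    · rw [wn_odd h]
      omega
  have hN0 : N ≠ 0 := by
    intro h
    rw [h, zero_mul] at h1
    exact hw0 h1.symm
  obtain ⟨L, _, _, x, hx⟩ := exists_elem hK (by omega : m + 1 ≠ 0) (Dvd.intro _ h1) hN0
  have h2 : ∏ i, orb q x (m + 1) i = 1 := by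
    rw [prod_orb, ← orderOf_dvd_iff_zpow_eq_one, hx, hN, Int.natCast_natAbs, abs_dvd]
  obtain ⟨t, ht⟩ := exists_su hK (ι := Fin (m + 1)) (m := m) (by simp) (orb q x (m + 1)) (finRotate (m + 1))
    (orb_rotate (zpow_eq_self (by rw [hx]; exact Dvd.intro _ h1))) h2
  refine ⟨L, inferInstance, inferInstance, t, x, ?_, ?_⟩
  · have h3 := ht 0
    simpa [orb] using h3
  · rw [orderOf_units, hx]
    exact h1

/-- **the torus of order `|(-q)^(n-1) - 1|`** -/
theorem exists_two (hK : Fintype.card K = q ^ 2) {m : ℕ} : ∃ (L : Type) (_ : Field L) (_ : Algebra K L)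
    (t : SU (m + 2) K q) (x : L), aeval x (ρ (m + 2) K q t).charpoly = 0 ∧ orderOf x = wn q (m + 1) := by
  have hq := two_le hK
  have hw0 : wn q (m + 1) ≠ 0 := by
    rcases Nat.even_or_odd (m + 1) with h | h
    · rw [wn_even (by omega) h]
      have : q ^ 1 ≤ q ^ (m + 1) := Nat.pow_le_pow_right (by omega) (by omega)
      rw [pow_one] at this
      omega
    · rw [wn_odd h]
      omega
  obtain ⟨L, _, _, x, hx⟩ := exists_elem hK (by omega : m + 1 ≠ 0) dvd_rfl hw0
  have hrot := orb_rotate (zpow_eq_self (x := x) (q := q) (m := m + 1) (by rw [hx]))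
  let z : Lˣ := ∏ i, orb q x (m + 1) i
  have hz : z ^ (-(q : ℤ)) = z := by
    show (∏ i, orb q x (m + 1) i) ^ (-(q : ℤ)) = ∏ i, orb q x (m + 1) i
    rw [← Finset.prod_zpow, ← Equiv.prod_comp (finRotate (m + 1)) (orb q x (m + 1))]
    exact Finset.prod_congr rfl fun i _ => (hrot i).symm
  obtain ⟨t, ht⟩ := exists_su hK (ι := Option (Fin (m + 1))) (m := m + 1) (by simp)
    (fun o => o.elim z⁻¹ (orb q x (m + 1))) (Equiv.optionCongr (finRotate (m + 1))) (by
      intro o
      cases o with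
      | none =>
        show z⁻¹ = z⁻¹ ^ (-(q : ℤ))
        rw [_root_.inv_zpow, hz]
      | some i => exact hrot i) (by
      rw [Fintype.prod_option]
      show z⁻¹ * ∏ i, orb q x (m + 1) i = 1
      exact inv_mul_cancel z)
  refine ⟨L, inferInstance, inferInstance, t, x, ?_, ?_⟩
  · have h3 := ht (some 0)
    simpa [orb] using h3
  · rw [orderOf_units, hx]

end tori

end Cfsg.Agent.H700.PsuRow
end

private theorem dce_c5104b45d17e : _root_.True := by
  try have : _root_.True := by simp only [_root_.Cfsg.Agent.H700.PsuRow.orb.eq_1]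
  exact _root_.True.intro
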